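import Groth.Agent.Amp73.TensorFrame
import Groth.Agent.Amp73.PullTensor

/-!
The projection formula for an invertible module: `f_*(F ⊗ f^*M) = f_*F ⊗ M`.
-/

universe u

open CategoryTheory CategoryTheory.Limits AlgebraicGeometry Opposite TopologicalSpace

noncomputable section

namespace Groth.Agent.ValVan29

open Var76.LineBundle Var76.ZeroScheme Amp73

variable {X Y : Scheme.{u}}

/-- A morphism which is bijective on all small enough opens near every point is an isomorphism. -/
theorem isIso_of_bijective_small {L M : X.Modules} (φ : L ⟶ M) (h : ∀ x : X, ∃ U : X.Opens,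
    x ∈ U ∧ ∀ V : X.Opens, V ≤ U → Function.Bijective (φ.app V)) : IsIso φ := by
  choose U hx hφ using h
  rw [Scheme.Modules.Hom.isIso_iff_isIso_app]
  intro V
  refine (ConcreteCategory.isIso_iff_bijective _).2 ⟨fun m m' hm => ?_, fun z => ?_⟩
  · refine eq_of_locally L _ _ fun y hy => ⟨V ⊓ U y, inf_le_left, ⟨hy, hx y⟩,
      (hφ y _ inf_le_right).1 ?_⟩
    rw [Mero90.app_res, Mero90.app_res, hm]
  · choose m hm using fun x : V => (hφ x.1 (V ⊓ U x.1) inf_le_right).2 (res M inf_le_left z)
    have hc : ∀ x y : V, res L (inf_le_left : (V ⊓ U x.1) ⊓ (V ⊓ U y.1) ≤ V ⊓ U x.1) (m x) =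
        res L (inf_le_right : (V ⊓ U x.1) ⊓ (V ⊓ U y.1) ≤ V ⊓ U y.1) (m y) := fun x y =>
      (hφ x.1 _ (inf_le_left.trans inf_le_right)).1 (by
        rw [Mero90.app_res, Mero90.app_res, hm, hm, res_res, res_res])
    obtain ⟨s, hs, -⟩ := TopCat.Sheaf.existsUnique_gluing' ⟨L.presheaf, L.isSheaf⟩
      (fun x : V => V ⊓ U x.1) V (fun x => homOfLE inf_le_left)
      (fun y hy => Opens.mem_iSup.2 ⟨⟨y, hy⟩, hy, hx y⟩) m hc
    refine ⟨s, eq_of_locally M _ _ fun y hy => ⟨V ⊓ U y, inf_le_left, ⟨hy, hx y⟩, ?_⟩⟩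
    rw [← Mero90.app_res]
    exact (congrArg (φ.app _) (hs ⟨y, hy⟩)).trans (hm ⟨y, hy⟩)

variable (f : X ⟶ Y) (F : X.Modules) (M : Y.Modules)

/-- The pairing `f_*F × M → f_*(F ⊗ f^*M)`. -/
def projPairing : Mero90.Pairing ((Coh.push f).obj F) M
    ((Coh.push f).obj (CohB1.tensorMod F ((Scheme.Modules.pullback f).obj M))) where
  b U a l := tm F _ (U := f ⁻¹ᵁ U) a (pullS f M U l)
  add_left U a a' l := tm_add_left _ _ _
  add_right U a l l' := by
    have h : pullS f M U (l + l') = pullS f M U l + pullS f M U l' := map_add _ _ _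
    rw [h]; exact tm_add_right _ _ _
  smul_left U r a l := tm_smul_left _ _ _
  smul_right U r a l := by
    rw [pullS_smul]
    exact tm_smul_right (L := F) (U := f ⁻¹ᵁ U) _ _ _
  nat U V h a l := by
    rw [← res_pullS]
    exact (res_tm (f.preimage_mono h) a (pullS f M U l)).symm

/-- The comparison map of the projection formula. -/
def projHom : CohB1.tensorMod ((Coh.push f).obj F) M ⟶
    (Coh.push f).obj (CohB1.tensorMod F ((Scheme.Modules.pullback f).obj M)) :=
  (projPairing f F M).lift

theorem isIso_projHom (hM : PicF.IsInvertible M) : IsIso (projHom f F M) := by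
  refine isIso_of_bijective_small _ fun y => ?_
  obtain ⟨W, hyW, -, e, he⟩ := Mero90.exists_affine_frame hM y ⊤ trivial
  refine ⟨W.1, hyW, fun V hV => ?_⟩
  let ψ : Γ((Coh.push f).obj F, V) → Γ(CohB1.tensorMod ((Coh.push f).obj F) M, V) := fun a =>
    tm _ M a (res M hV e)
  have hψ : Function.Bijective ψ :=
    ⟨fun a a' h => tm_frame_injective he hV a a' h, fun z => exists_eq_tm_frame he hV z⟩
  have hF := isFrame_pullS f hM he
  have hcomp : ∀ a, (projHom f F M).app V (ψ a) =
      tm F ((Scheme.Modules.pullback f).obj M) (U := f ⁻¹ᵁ V) a (res _ (f.preimage_mono hV) (pullS f M W.1 e)) :=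
    fun a => ((projPairing f F M).lift_tmul V a (res M hV e)).trans (by rw [res_pullS]; rfl)
  have hbij : Function.Bijective ((projHom f F M).app V ∘ ψ) :=
    ⟨fun a a' h => tm_frame_injective hF (f.preimage_mono hV) a a' (by
        simp only [Function.comp_apply] at h
        rwa [hcomp, hcomp] at h),
      fun z => by
        obtain ⟨a, ha⟩ := exists_eq_tm_frame hF (f.preimage_mono hV) z
        exact ⟨a, (hcomp a).trans ha⟩⟩
  exact (Function.Bijective.of_comp_iff _ hψ).1 hbij

/-- The projection formula. -/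
def projIso (hM : PicF.IsInvertible M) : CohB1.tensorMod ((Coh.push f).obj F) M ≅
    (Coh.push f).obj (CohB1.tensorMod F ((Scheme.Modules.pullback f).obj M)) :=
  @asIso _ _ _ _ (projHom f F M) (isIso_projHom f F M hM)

end Groth.Agent.ValVan29

end
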