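import Groth.Agent.ValVan29.Chart
import Groth.Agent.ValVan29.PushTwist
import Groth.Agent.Amp73.ProjGen
import Groth.Agent.Crv77.Twist
import Groth.Agent.Crv77.HH
import Groth.Agent.Coh69.ExtShift
import Groth.Agent.Coh69.Sections
import Groth.Agent.Coh69.QcInd
import Groth.Agent.Coh69.AffinePush
import Groth.Agent.Mero90.Frames
import Groth.Agent.Var76.ProjCoord
import Groth.Agent.QC70.CohOps
import Groth.Agent.Props58.LocFree.Criteria

/-!
Serre vanishing on flat projective schemes over a Prüfer domain.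
-/

set_option autoImplicit false
set_option linter.style.haveILetI false

universe u

open CategoryTheory CategoryTheory.Limits AlgebraicGeometry Opposite TopologicalSpace CategoryTheory.Abelian

noncomputable section

open scoped Classical

namespace Groth.Agent.ValVan29

variable {X : Scheme.{u}}

theorem subsingleton_hh_of_isZero {M : X.Modules} (h : IsZero M) (q : ℕ) :
    Subsingleton (Coh.HH X M q) := by
  refine ⟨fun x y => ?_⟩
  have key : ∀ x : Ext.{u} (Crv77.srcObj X) ((Crv77.toAbF X).obj M) q, x = 0 := fun x => by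
    rw [← Ext.comp_mk₀_id x, ← (Crv77.toAbF X).map_id, h.eq_of_src (𝟙 M) 0, Functor.map_zero, Ext.mk₀_zero,
      Ext.comp_zero]
  exact (key x).trans (key y).symm

theorem subsingleton_hh_of_iso {M N : X.Modules} (e : M ≅ N) (q : ℕ) (h : Subsingleton (Coh.HH X M q)) :
    Subsingleton (Coh.HH X N q) := by
  refine ⟨fun x y => ?_⟩
  have h' : Subsingleton (Ext.{u} (Crv77.srcObj X) ((Crv77.toAbF X).obj M) q) := h
  have key : ∀ x : Ext.{u} (Crv77.srcObj X) ((Crv77.toAbF X).obj N) q, x = 0 := fun x => by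
    rw [← Ext.comp_mk₀_id x, ← (Crv77.toAbF X).map_id, ← e.inv_hom_id, Functor.map_comp,
      ← Crv77.ext_comp_comp, Subsingleton.elim (Ext.comp x (Ext.mk₀ _) (add_zero q)) 0, Ext.zero_comp]
  exact (key x).trans (key y).symm

section LES

variable {S : ShortComplex X.Modules} (hS : S.ShortExact) (q : ℕ)

include hS

theorem subsingleton_hh_X₂ (h₁ : Subsingleton (Coh.HH X S.X₁ q)) (h₃ : Subsingleton (Coh.HH X S.X₃ q)) :
    Subsingleton (Coh.HH X S.X₂ q) := by
  haveI : Subsingleton (Ext.{u} (Crv77.srcObj X) (Crv77.abComplex S).X₁ q) := h₁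
  haveI : Subsingleton (Ext.{u} (Crv77.srcObj X) (Crv77.abComplex S).X₃ q) := h₃
  exact Coh69.ext_subsingleton_X₂ (Crv77.abComplex_shortExact hS) (Crv77.srcObj X) q

theorem subsingleton_hh_X₃ (h₂ : Subsingleton (Coh.HH X S.X₂ q))
    (h₁ : Subsingleton (Coh.HH X S.X₁ (q + 1))) : Subsingleton (Coh.HH X S.X₃ q) := by
  haveI : Subsingleton (Ext.{u} (Crv77.srcObj X) (Crv77.abComplex S).X₂ q) := h₂
  haveI : Subsingleton (Ext.{u} (Crv77.srcObj X) (Crv77.abComplex S).X₁ (q + 1)) := h₁
  exact Coh69.ext_subsingleton_X₃ (Crv77.abComplex_shortExact hS) (Crv77.srcObj X) q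

end LES

/-- Extensions of finitely presented modules are finitely presented. -/
theorem isFP_extension (S : ShortComplex X.Modules) (hS : S.ShortExact) (h₁ : CohB1.IsFP S.X₁)
    (h₃ : CohB1.IsFP S.X₃) : CohB1.IsFP S.X₂ := by
  obtain ⟨σ, hσ⟩ := h₁.exists_quasicoherentData
  obtain ⟨τ, hτ⟩ := h₃.exists_quasicoherentData
  haveI : S.X₁.IsQuasicoherent := σ.isQuasicoherent
  haveI : S.X₃.IsQuasicoherent := τ.isQuasicoherent
  haveI := QC70.isQuasicoherent_X₂ S hS
  refine Props58.LocFree.isFP_of_sections S.X₂ (fun U : X.affineOpens => U.1)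
    (IsOpenCover.mk (iSup_affineOpens_eq_top X)) (fun U => U.2) fun U => ?_
  have h1 := Props58.LocFree.finitePresentation_sections S.X₁ (hM := h₁) U.2
  have h3 := Props58.LocFree.finitePresentation_sections S.X₃ (hM := h₃) U.2
  haveI := hS.mono_f
  let g := appL S.g U.1
  have hg : Function.Surjective g := QC70.app_surjective_of_isAffineOpen S hS U.2
  let i : Γ(S.X₁, U.1) →ₗ[Γ(X, U.1)] LinearMap.ker g :=
    (appL S.f U.1).codRestrict _ fun x => QC70.app_f_g S U.1 x
  have hi : Function.Bijective i :=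
    ⟨fun a b h => QC70.app_injective_of_mono S.f _ (congrArg Subtype.val h), fun ⟨y, hy⟩ => by
      obtain ⟨x, hx⟩ := QC70.exists_app_eq_of_exact S hS.exact U.1 y hy
      exact ⟨x, Subtype.ext hx⟩⟩
  haveI : Module.FinitePresentation Γ(X, U.1) (LinearMap.ker g) :=
    Module.FinitePresentation.of_equiv (LinearEquiv.ofBijective i hi)
  exact Module.finitePresentation_of_ker g hg

theorem isFP_of_isZero {M : X.Modules} (h : IsZero M) : CohB1.IsFP M := by
  haveI := QC70.isQuasicoherent_of_isZero h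
  refine Props58.LocFree.isFP_of_sections M (fun U : X.affineOpens => U.1)
    (IsOpenCover.mk (iSup_affineOpens_eq_top X)) (fun U => U.2) fun U => ?_
  haveI : Subsingleton Γ(M, U.1) := subsingleton_of_forall_eq 0 fun x => by
    have : (𝟙 M : M ⟶ M).app U.1 x = (0 : M ⟶ M).app U.1 x := by rw [h.eq_of_src (𝟙 M) 0]
    exact this
  infer_instance

theorem isCoh_of_isFP {M : X.Modules} (h : CohB1.IsFP M) : Coh.IsCoh M := by
  obtain ⟨σ, hσ⟩ := h.exists_quasicoherentData
  haveI : M.IsQuasicoherent := σ.isQuasicoherent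
  refine ⟨σ.isQuasicoherent, QC70.isFiniteType_of_finite_sections M (fun i : X.affineOpens => i.1)
    (iSup_affineOpens_eq_top X) (fun i => i.2) fun i => ?_⟩
  haveI := Props58.LocFree.finitePresentation_sections M (hM := h) i.2
  infer_instance

theorem isZero_tensorMod {M L : X.Modules} (h : IsZero M) (hL : PicF.IsInvertible L) :
    IsZero (CohB1.tensorMod M L) := by
  have hM : ∀ (V : X.Opens) (a : Γ(M, V)), a = 0 := fun V a => by
    have : (𝟙 M : M ⟶ M).app V a = (0 : M ⟶ M).app V a := by rw [h.eq_of_src (𝟙 M) 0]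
    exact this
  have hz : ∀ (V : X.Opens) (z : Γ(CohB1.tensorMod M L, V)), z = 0 := fun V z => by
    refine Var76.ZeroScheme.eq_of_locally _ _ _ fun y hy => ?_
    obtain ⟨W, hyW, hWV, e, he⟩ := Mero90.exists_affine_frame hL y V hy
    refine ⟨W.1, hWV, hyW, ?_⟩
    obtain ⟨a, ha⟩ := Amp73.exists_eq_tm_frame he le_rfl (Var76.LineBundle.res _ hWV z)
    rw [← ha, hM _ a, Amp73.tm_zero_left]
    exact (map_zero _).symm
  rw [IsZero.iff_id_eq_zero]
  ext V z
  exact hz _ z

section Proj

variable {R : Type u} [CommRing R] [IsDomain R]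
  (hR : ∀ (p : Ideal R) [p.IsPrime], ValuationRing (Localization.AtPrime p)) {N : ℕ}

/-- `O(1)`. -/
abbrev O1 (R : Type u) [CommRing R] (N : ℕ) : (CohB1.ProjSpace N R).Modules := Twist.twistProjSpace N R 1

omit [IsDomain R] in
theorem generated : (HomogeneousIdeal.irrelevant (CohB1.polyGrading N R)).toIdeal =
    Ideal.span ((Finset.univ.image (MvPolynomial.X : Fin (N + 1) → MvPolynomial (Fin (N + 1)) R) : Finset _) :
      Set (MvPolynomial (Fin (N + 1)) R)) := by
  rw [Finset.coe_image, Finset.coe_univ, Set.image_univ]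
  refine le_antisymm (fun a ha => ?_) (Ideal.span_le.2 ?_)
  · change a ∈ HomogeneousIdeal.irrelevant _ at ha
    rw [HomogeneousIdeal.mem_irrelevant_iff, GradedRing.proj_apply,
      ← DirectSum.Decomposition.decompose'_eq, MvPolynomial.decomposition.decompose'_apply,
      MvPolynomial.homogeneousComponent_zero, MvPolynomial.C_eq_zero] at ha
    rw [← Set.image_univ, MvPolynomial.mem_ideal_span_X_image]
    intro m hm
    obtain ⟨i, hi⟩ : ∃ i, m i ≠ 0 := by
      by_contra hc
      push Not at hc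
      rw [show m = 0 from Finsupp.ext hc] at hm
      exact (MvPolynomial.mem_support_iff.1 hm) ha
    exact ⟨i, trivial, hi⟩
  · rintro _ ⟨i, rfl⟩
    exact HomogeneousIdeal.mem_irrelevant_of_mem _ zero_lt_one (MvPolynomial.isHomogeneous_X R i)

omit [IsDomain R] in
theorem subsingleton_hh_of_le {Y : Scheme.{u}} (q : Y ⟶ Spec (CommRingCat.of R)) [IsSeparated q]
    (U : ULift.{u} (Fin (N + 1)) → Y.Opens) (hU : ∀ j, IsAffineOpen (U j)) (hcov : ⨆ j, U j = ⊤)
    (M : Y.Modules) (hM : Coh.IsQCoh M) (n : ℕ) (hn : N + 1 ≤ n) : Subsingleton (Coh.HH Y M n) := by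
  haveI : M.IsQuasicoherent := hM
  have hd : ∀ V W : Y.Opens, IsAffineOpen V → IsAffineOpen W → IsAffineOpen (V ⊓ W) :=
    fun V W hV hW => (isAffineHom_diagonal_iff (f := q)).mp inferInstance
      ⊤ (isAffineOpen_top _) V (by simp) W (by simp) hV hW
  have h := Coh69.subsingleton_HE_biSup hd M (N + 1) (fun i => U ⟨i⟩) (fun i => hU _) n hn
  rw [show (⨆ i, U ⟨i⟩) = ⊤ from by rw [← hcov]; exact Equiv.ulift.symm.surjective.iSup_comp U] at h
  exact (Coh69.hhEquiv M n).toEquiv.subsingleton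

omit [IsDomain R] in
theorem isInvertible_O1_pow (n : ℕ) : PicF.IsInvertible (CohB1.tensorPow (O1 R N) n) :=
  EGA73.isInvertible_tensorPow (EGA73.isInvertible_twist (Amp73.span_degree_one _ (fun f hf => by
    obtain ⟨i, -, rfl⟩ := Finset.mem_image.1 hf
    exact MvPolynomial.isHomogeneous_X R i) (generated (R := R) (N := N))) 1) n

omit [IsDomain R] in
theorem subsingleton_hh_twist_above {G : (CohB1.ProjSpace N R).Modules} (hG : Coh.IsQCoh G) (n q : ℕ)
    (hq : N + 1 ≤ q) : Subsingleton (Coh.HH _ (CohB1.tensorMod G (CohB1.tensorPow (O1 R N) n)) q) :=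
  have := Serre71.isProper_projSpace N R
  subsingleton_hh_of_le (CohB1.ProjSpace.toSpec N R) _ isAffineOpen_stdU (Pn71.iSup_stdU N R) _
    (Amp73.isQCoh_tensorMod hG (Mero90.isQCoh_of_isInvertible (isInvertible_O1_pow n))) q hq

include hR in
/-- Eventual vanishing of the higher cohomology of twists, in each degree. -/
theorem exists_vanishing : ∀ (j : ℕ) (G : (CohB1.ProjSpace N R).Modules), CohB1.IsFP G → ∀ q : ℕ, 1 ≤ q →
    N + 1 ≤ q + j → ∃ n₀ : ℕ, ∀ n, n₀ ≤ n →
      Subsingleton (Coh.HH _ (CohB1.tensorMod G (CohB1.tensorPow (O1 R N) n)) q) := by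
  have hgen := Amp73.span_degree_one _ (fun f hf => by
    obtain ⟨i, -, rfl⟩ := Finset.mem_image.1 hf
    exact MvPolynomial.isHomogeneous_X R i) (generated (R := R) (N := N))
  have hinv : ∀ n, PicF.IsInvertible (CohB1.tensorPow (O1 R N) n) := isInvertible_O1_pow
  intro j
  induction j with
  | zero =>
    exact fun G hG q _ hq => ⟨0, fun n _ => subsingleton_hh_twist_above (isCoh_of_isFP hG).1 n q hq⟩
  | succ j ih =>
    intro G hG q hq hqj
    obtain ⟨a, ha⟩ := Amp73.exists_epi_negative_twists (𝒜 := CohB1.polyGrading N R) _ (fun f hf => by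
      obtain ⟨i, -, rfl⟩ := Finset.mem_image.1 hf
      exact MvPolynomial.isHomogeneous_X R i) generated G (isCoh_of_isFP hG)
    obtain ⟨k, p, hp⟩ := ha a le_rfl
    let O : (CohB1.ProjSpace N R).Modules := Twist.twist (CohB1.polyGrading N R) (-(a : ℤ))
    let e : (⨁ fun _ : Fin k => O) ≅ (∐ fun _ : Fin k => O) := biproduct.isoCoproduct _
    let p' : (⨁ fun _ : Fin k => O) ⟶ G := e.hom ≫ p
    haveI : Epi p' := @epi_comp _ _ _ _ _ e.hom inferInstance p hp
    have hO : CohB1.IsFP O := Props58.LocFree.isFP_of_isFinLocFree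
      fun x => ((Mero90.isFinLocFreeOfRank_of_isInvertible (EGA73.isInvertible_twist hgen _)) x).imp
        fun U hU => ⟨1, hU⟩
    have hE : CohB1.IsFP (⨁ fun _ : Fin k => O) :=
      QC70.biproduct_induction (fun M => CohB1.IsFP M) (fun _ h => isFP_of_isZero h) isFP_extension _
        fun _ => hO
    have hK : CohB1.IsFP (kernel p') := isFP_kernel (projCover hR) hE hG p'
    obtain ⟨n₁, hn₁⟩ := ih (kernel p') hK (q + 1) (by omega) (by omega)
    refine ⟨max n₁ a, fun n hn => ?_⟩
    let S := ShortComplex.mk (kernel.ι p') p' (kernel.condition p')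
    have hS : S.ShortExact :=
      { exact := ShortComplex.exact_of_f_is_kernel _ (kernelIsKernel p')
        mono_f := (inferInstance : Mono (kernel.ι p'))
        epi_g := (inferInstance : Epi p') }
    have hfl := Mero90.isFinLocFreeOfRank_of_isInvertible (hinv n)
    obtain ⟨T, hT, h1, h2, h3⟩ := Crv77.shortExact_twist hfl hS
    rw [← h3]
    refine subsingleton_hh_X₃ hT q ?_ (h1 ▸ hn₁ n (le_of_max_le_left hn))
    rw [h2]
    refine QC70.biproduct_induction
      (fun M => Subsingleton (Coh.HH _ (CohB1.tensorMod M (CohB1.tensorPow (O1 R N) n)) q))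
      (fun M h => subsingleton_hh_of_isZero (isZero_tensorMod h (hinv n)) q)
      (fun S hS h₁ h₃ => ?_) _ fun _ => ?_
    · obtain ⟨T, hT, h1, h2, h3⟩ := Crv77.shortExact_twist hfl hS
      rw [← h2]
      exact subsingleton_hh_X₂ hT q (h1 ▸ h₁) (h3 ▸ h₃)
    · obtain ⟨i⟩ := EGA73.nonempty_twist_iso_tensorPow hgen n
      obtain ⟨t⟩ := EGA73.nonempty_twist_tensor_iso hgen (-(a : ℤ)) (n : ℤ)
      refine subsingleton_hh_of_iso (t.symm ≪≫ EGA73.tensIso (Iso.refl _) i) q ?_
      exact Pn71.subsingleton_hh N R (-(a : ℤ) + n) q (fun h => by omega) (fun h => by omega)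

include hR in
/-- Serre vanishing on projective space. -/
theorem exists_vanishing_all (G : (CohB1.ProjSpace N R).Modules) (hG : CohB1.IsFP G) :
    ∃ n₀ : ℕ, ∀ n, n₀ ≤ n → ∀ q : ℕ, 1 ≤ q →
      Subsingleton (Coh.HH _ (CohB1.tensorMod G (CohB1.tensorPow (O1 R N) n)) q) := by
  choose n₀ hn₀ using fun q : Fin (N + 1) => exists_vanishing hR (N + 1) G hG (q + 1) (by omega) (by omega)
  refine ⟨Finset.univ.sup n₀, fun n hn q hq => ?_⟩
  by_cases h : q ≤ N + 1
  · obtain ⟨i, rfl⟩ : ∃ i, q = i + 1 := ⟨q - 1, by omega⟩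
    exact hn₀ ⟨i, by omega⟩ n ((Finset.le_sup (Finset.mem_univ _)).trans hn)
  · exact subsingleton_hh_twist_above (isCoh_of_isFP hG).1 n q (by omega)

variable (ι : X ⟶ CohB1.ProjSpace N R) [IsClosedImmersion ι]
  [Flat (ι ≫ CohB1.ProjSpace.toSpec N R)]

include hR in
/-- Serre vanishing on a flat closed subscheme of projective space. -/
theorem exists_vanishing_sub (F : X.Modules) (hF : CohB1.IsFP F) :
    ∃ n₀ : ℕ, ∀ n, n₀ ≤ n → ∀ q : ℕ, 1 ≤ q →
      Subsingleton (Coh.HH X (CohB1.tensorMod F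
        (CohB1.tensorPow ((Scheme.Modules.pullback ι).obj (O1 R N)) n)) q) := by
  have hgen := Amp73.span_degree_one _ (fun f hf => by
    obtain ⟨i, -, rfl⟩ := Finset.mem_image.1 hf
    exact MvPolynomial.isHomogeneous_X R i) (generated (R := R) (N := N))
  have h1 : PicF.IsInvertible (O1 R N) := EGA73.isInvertible_twist hgen 1
  obtain ⟨n₀, hn₀⟩ := exists_vanishing_all hR _ (isFP_push_sub hR ι hF)
  refine ⟨n₀, fun n hn q hq => ?_⟩
  let M := CohB1.tensorMod F ((Scheme.Modules.pullback ι).obj (CohB1.tensorPow (O1 R N) n))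
  refine subsingleton_hh_of_iso
    (EGA73.tensIso (Iso.refl F) (Amp73.pullPowIso ι h1 n) : M ≅ _) q ?_
  have hL := EGA73.isInvertible_tensorPow h1 n
  haveI : M.IsQuasicoherent := Amp73.isQCoh_tensorMod (isCoh_of_isFP hF).1
    (Mero90.isQCoh_of_isInvertible (Amp73.isInvertible_pullback ι hL))
  obtain ⟨e⟩ := Coh69.nonempty_hh_push ι M q
  haveI := subsingleton_hh_of_iso (projIso ι F _ hL) q (hn₀ n hn q hq)
  exact e.toEquiv.subsingleton

end Proj

end Groth.Agent.ValVan29

end
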