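import Groth.Agent.Prufer29.Coherent
import Groth.Agent.Coh3.Coherent
import Groth.Agent.QC70.Closure
import Groth.Agent.Props58.LocFree.FP
import Groth.Agent.QCqs72.Basic

/-!
Finitely presented modules on a scheme with an affine cover by coherent rings: kernels and direct
images.
-/

set_option autoImplicit false

universe u

open CategoryTheory CategoryTheory.Limits AlgebraicGeometry Opposite TopologicalSpace

namespace Groth.Agent.ValVan29

/-- A finitely generated torsion free algebra over a Prüfer domain is finitely presented. -/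
theorem finitePresentation_of_torsionFree {R : Type u} [CommRing R] [IsDomain R]
    (hR : ∀ (p : Ideal R) [p.IsPrime], ValuationRing (Localization.AtPrime p))
    {A : Type u} [CommRing A] [Algebra R A] [Algebra.FiniteType R A]
    (h : ∀ r : R, r ≠ 0 → ∀ a : A, r • a = 0 → a = 0) : Algebra.FinitePresentation R A := by
  classical
  obtain ⟨n, f, hf⟩ := Algebra.FiniteType.iff_quotient_mvPolynomial''.1 ‹Algebra.FiniteType R A›
  let P := MvPolynomial (Fin n) R
  let ev : (Fin 1 → P) →ₗ[P] P := LinearMap.proj 0
  let M : Submodule P (Fin 1 → P) := Submodule.comap ev (RingHom.ker f.toRingHom)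
  have hM : M.FG := Prufer29.Saturated.fg_of_saturated (fun r hr v hv => by
    have hv' : f (r • v 0) = 0 := hv
    rw [map_smul] at hv'
    exact h r hr _ hv') hR
  have hmap : M.map ev = RingHom.ker f.toRingHom :=
    Submodule.map_comap_eq_of_surjective (fun p => ⟨fun _ => p, rfl⟩) _
  exact ⟨n, f, hf, hmap ▸ hM.map ev⟩

/-- Finitely presented algebras over a Prüfer domain are coherent rings. -/
theorem fgIsFP_ring {R : Type u} [CommRing R] [IsDomain R]
    (hR : ∀ (p : Ideal R) [p.IsPrime], ValuationRing (Localization.AtPrime p))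
    (A : Type u) [CommRing A] [Algebra R A] [Algebra.FinitePresentation R A] : Coh3.FGisFP A A :=
  fun N hN => Prufer29.ideal_finitePresentation hR N hN

variable {X : Scheme.{u}}

/-- The map on sections as a linear map. -/
noncomputable def appL {F G : X.Modules} (φ : F ⟶ G) (U : X.Opens) : Γ(F, U) →ₗ[Γ(X, U)] Γ(G, U) where
  toFun := φ.app U
  map_add' := map_add _
  map_smul' r x := Scheme.Modules.Hom.app_smul φ r x

/-- A cover by affine opens with coherent rings of functions. -/
structure CohCover (X : Scheme.{u}) where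
  /-- The index. -/
  J : Type u
  /-- The opens. -/
  V : J → X.Opens
  cover : IsOpenCover V
  affine : ∀ j, IsAffineOpen (V j)
  coherent : ∀ j, Coh3.FGisFP Γ(X, V j) Γ(X, V j)

/-- Kernels of maps of finitely presented modules are finitely presented. -/
theorem isFP_kernel (C : CohCover X) {F G : X.Modules} (hF : CohB1.IsFP F) (hG : CohB1.IsFP G)
    (φ : F ⟶ G) : CohB1.IsFP (kernel φ) := by
  obtain ⟨σ, hσ⟩ := hF.exists_quasicoherentData
  obtain ⟨τ, hτ⟩ := hG.exists_quasicoherentData
  have : F.IsQuasicoherent := σ.isQuasicoherent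
  have : G.IsQuasicoherent := τ.isQuasicoherent
  have : (kernel φ).IsQuasicoherent := QC70.isQuasicoherent_kernel φ
  refine Props58.LocFree.isFP_of_sections (kernel φ) C.V C.cover C.affine fun j => ?_
  have hFU := Props58.LocFree.finitePresentation_sections F (hM := hF) (C.affine j)
  have hGU := Props58.LocFree.finitePresentation_sections G (hM := hG) (C.affine j)
  let ψ := appL φ (C.V j)
  have : Module.FinitePresentation Γ(X, C.V j) (LinearMap.range ψ) :=
    Coh3.fgIsFP_of_finitePresentation (C.coherent j) _
      (LinearMap.range_eq_map ψ ▸ Module.Finite.fg_top.map ψ)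
  have hker : (LinearMap.ker ψ.rangeRestrict).FG :=
    Module.FinitePresentation.fg_ker _ ψ.surjective_rangeRestrict
  rw [LinearMap.ker_rangeRestrict] at hker
  have : Module.FinitePresentation Γ(X, C.V j) (LinearMap.ker ψ) :=
    Coh3.fgIsFP_of_finitePresentation (C.coherent j) _ hker
  let S : ShortComplex X.Modules := ShortComplex.mk (kernel.ι φ) φ (kernel.condition φ)
  have hS : S.Exact := ShortComplex.exact_of_f_is_kernel _ (kernelIsKernel φ)
  let i : Γ(kernel φ, C.V j) →ₗ[Γ(X, C.V j)] LinearMap.ker ψ :=
    (appL (kernel.ι φ) (C.V j)).codRestrict _ fun x => QC70.app_f_g S (C.V j) x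
  have hi : Function.Bijective i :=
    ⟨fun a b h => QC70.app_injective_of_mono (kernel.ι φ) _ (congrArg Subtype.val h),
      fun ⟨y, hy⟩ => by
        obtain ⟨x, hx⟩ := QC70.exists_app_eq_of_exact S hS (C.V j) y hy
        exact ⟨x, Subtype.ext hx⟩⟩
  exact Module.FinitePresentation.of_equiv (LinearEquiv.ofBijective i hi).symm

/-- Direct images along a closed immersion with finitely presented kernels on the cover. -/
theorem isFP_push {Y : Scheme.{u}} (f : X ⟶ Y) [IsClosedImmersion f] (C : CohCover Y)
    (hf : ∀ j, (RingHom.ker (f.app (C.V j)).hom).FG) {F : X.Modules} (hF : CohB1.IsFP F) :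
    CohB1.IsFP ((Coh.push f).obj F) := by
  obtain ⟨σ, hσ⟩ := hF.exists_quasicoherentData
  have : F.IsQuasicoherent := σ.isQuasicoherent
  have : ((Coh.push f).obj F).IsQuasicoherent := QCqs72.isQuasicoherent_pushforward (M := F) f
  refine Props58.LocFree.isFP_of_sections _ C.V C.cover C.affine fun j => ?_
  have hFU := Props58.LocFree.finitePresentation_sections F (hM := hF) ((C.affine j).preimage f)
  let A := Γ(Y, C.V j)
  let B := Γ(X, f ⁻¹ᵁ C.V j)
  algebraize [(f.app (C.V j)).hom]
  have : Module.FinitePresentation A B :=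
    Module.finitePresentation_of_surjective (Algebra.linearMap A B)
      (Scheme.Hom.app_surjective f _ (C.affine j)) (hf j)
  let := Module.compHom Γ(F, f ⁻¹ᵁ C.V j) (f.app (C.V j)).hom
  have : IsScalarTower A B Γ(F, f ⁻¹ᵁ C.V j) := IsScalarTower.of_algebraMap_smul fun _ _ => rfl
  have hA : Module.FinitePresentation A Γ(F, f ⁻¹ᵁ C.V j) := Module.FinitePresentation.trans (R := A) _ B
  exact hA

end Groth.Agent.ValVan29
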