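import Groth.Agent.ValVan29.Coherent
import Mathlib.RingTheory.Flat.TorsionFree
import Groth.Agent.Serre71.ProjFinite
import Groth.Agent.Pn71.Cohomology

/-!
The standard cover of projective space over a Prüfer domain and of its flat closed subschemes.
-/

set_option autoImplicit false
set_option backward.isDefEq.respectTransparency false

universe u

open CategoryTheory CategoryTheory.Limits AlgebraicGeometry Opposite TopologicalSpace

noncomputable section

namespace Groth.Agent.ValVan29

open HomogeneousLocalization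

variable {R : Type u} [CommRing R] {N : ℕ} {X : Scheme.{u}}

/-- The scalars on an open of a scheme over `Spec R`. -/
def scal (q : X ⟶ Spec (CommRingCat.of R)) (W : X.Opens) : R →+* Γ(X, W) :=
  ((Scheme.ΓSpecIso (CommRingCat.of R)).inv ≫ Scheme.Hom.appLE q ⊤ W le_top).hom

theorem app_scal {Y : Scheme.{u}} (q : Y ⟶ Spec (CommRingCat.of R)) (f : X ⟶ Y) (V : Y.Opens) (r : R) :
    f.app V (scal q V r) = scal (f ≫ q) (f ⁻¹ᵁ V) r := by
  show f.app V (Scheme.Hom.appLE q ⊤ V _ ((Scheme.ΓSpecIso (CommRingCat.of R)).inv r)) =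
    Scheme.Hom.appLE (f ≫ q) ⊤ (f ⁻¹ᵁ V) _ ((Scheme.ΓSpecIso (CommRingCat.of R)).inv r)
  rw [← ConcreteCategory.comp_apply, Scheme.Hom.app_eq_appLE, Scheme.Hom.appLE_comp_appLE]

theorem finiteType_scal (q : X ⟶ Spec (CommRingCat.of R)) [LocallyOfFiniteType q] {W : X.Opens}
    (hW : IsAffineOpen W) : (scal q W).FiniteType :=
  have h : (Scheme.Hom.appLE q ⊤ W le_top).hom.FiniteType :=
    HasRingHomProperty.appLE @LocallyOfFiniteType q inferInstance ⟨⊤, isAffineOpen_top _⟩ ⟨W, hW⟩ le_top
  h.comp (RingHom.FiniteType.of_surjective _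
    (ConcreteCategory.bijective_of_isIso (Scheme.ΓSpecIso (CommRingCat.of R)).inv).2)

theorem flat_scal (q : X ⟶ Spec (CommRingCat.of R)) [Flat q] {W : X.Opens}
    (hW : IsAffineOpen W) : (scal q W).Flat :=
  have h : (Scheme.Hom.appLE q ⊤ W le_top).hom.Flat :=
    HasRingHomProperty.appLE @Flat q inferInstance ⟨⊤, isAffineOpen_top _⟩ ⟨W, hW⟩ le_top
  RingHom.Flat.comp
    (RingHom.Flat.of_bijective (ConcreteCategory.bijective_of_isIso (Scheme.ΓSpecIso (CommRingCat.of R)).inv))
    h

theorem SpecMap_scal (q : X ⟶ Spec (CommRingCat.of R)) {W : X.Opens} (hW : IsAffineOpen W) :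
    Spec.map (CommRingCat.ofHom (scal q W)) = hW.fromSpec ≫ q := by
  show Spec.map ((Scheme.ΓSpecIso (CommRingCat.of R)).inv ≫ Scheme.Hom.appLE q ⊤ W le_top) = _
  rw [Spec.map_comp, ← IsAffineOpen.SpecMap_appLE_fromSpec q (isAffineOpen_top _) hW le_top,
    IsAffineOpen.fromSpec_top, Scheme.isoSpec_Spec_inv]

theorem isAffineOpen_stdU (j : ULift.{u} (Fin (N + 1))) : IsAffineOpen (Pn71.stdU N R j) :=
  Proj.isAffineOpen_basicOpen _ _ (MvPolynomial.isHomogeneous_X R j.down) one_pos

theorem eq_zero_of_smul [IsDomain R] (N : ℕ) (j : ULift.{u} (Fin (N + 1))) (r : R) (hr : r ≠ 0)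
    (x : Γ(CohB1.ProjSpace N R, Pn71.stdU N R j))
    (h : scal (CohB1.ProjSpace.toSpec N R) (Pn71.stdU N R j) r * x = 0) : x = 0 := by
  let 𝒜 := CohB1.polyGrading N R
  let f : MvPolynomial (Fin (N + 1)) R := MvPolynomial.X j.down
  have hf : f ∈ 𝒜 1 := MvPolynomial.isHomogeneous_X R j.down
  have hU : IsAffineOpen (Proj.basicOpen 𝒜 f) := Proj.isAffineOpen_basicOpen _ _ hf one_pos
  let a := Proj.awayToSection 𝒜 f
  let cst : R →+* Away 𝒜 f := (fromZeroRingHom 𝒜 _).comp (algebraMap R (𝒜 0))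
  have hc : scal (CohB1.ProjSpace.toSpec N R) (Pn71.stdU N R j) = a.hom.comp cst := by
    refine congrArg CommRingCat.Hom.hom (?_ : CommRingCat.ofHom
      (scal (CohB1.ProjSpace.toSpec N R) (Pn71.stdU N R j)) = CommRingCat.ofHom cst ≫ a)
    have h1 : (isAffineOpen_stdU (R := R) j).isoSpec.inv =
        Spec.map a ≫ (Proj.basicOpenIsoSpec 𝒜 f hf one_pos).inv := by
      rw [Iso.eq_comp_inv, Proj.basicOpenIsoSpec_hom]
      show (isAffineOpen_stdU (R := R) j).isoSpec.inv ≫ (Pn71.stdU N R j).toSpecΓ ≫ _ = _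
      rw [← (isAffineOpen_stdU (R := R) j).isoSpec_hom, Iso.inv_hom_id_assoc]
    apply Spec.map_injective
    rw [SpecMap_scal (CohB1.ProjSpace.toSpec N R) (isAffineOpen_stdU (R := R) j)]
    simp only [cst, CommRingCat.ofHom_comp, Spec.map_comp]
    rw [← Proj.awayι_toSpecZero 𝒜 f hf one_pos]
    show ((isAffineOpen_stdU (R := R) j).isoSpec.inv ≫ (Pn71.stdU N R j).ι) ≫ CohB1.ProjSpace.toSpec N R = _
    rw [h1]
    simp only [CohB1.ProjSpace.toSpec, Category.assoc, ← Proj.basicOpenIsoSpec_inv_ι]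
    rfl
  obtain ⟨z, rfl⟩ : ∃ z, a z = x :=
    (ConcreteCategory.bijective_of_isIso (Proj.basicOpenIsoAway 𝒜 f hf one_pos).hom).2 x
  have hinj : Function.Injective a :=
    (ConcreteCategory.bijective_of_isIso (Proj.basicOpenIsoAway 𝒜 f hf one_pos).hom).1
  have h2 : cst r * z = 0 := by
    refine hinj ?_
    rw [map_mul, map_zero]
    exact (congrArg (fun t : R →+* _ => t r * a z) hc).symm.trans h
  suffices z = 0 by rw [this, map_zero]
  refine HomogeneousLocalization.val_injective _ ?_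
  have h3 := congrArg HomogeneousLocalization.val h2
  rw [HomogeneousLocalization.val_mul, HomogeneousLocalization.val_zero] at h3
  have h4 : (cst r).val = algebraMap _ (Localization (Submonoid.powers f)) (MvPolynomial.C r) :=
    Localization.mk_one_eq_algebraMap _
  have hle : Submonoid.powers f ≤ nonZeroDivisors (MvPolynomial (Fin (N + 1)) R) :=
    powers_le_nonZeroDivisors_of_noZeroDivisors (MvPolynomial.X_ne_zero _)
  have : IsDomain (Localization (Submonoid.powers f)) := IsLocalization.isDomain_localization hle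
  rw [HomogeneousLocalization.val_zero]
  refine (mul_eq_zero.1 h3).resolve_left fun h5 => hr ?_
  rw [h4, map_eq_zero_iff _ (IsLocalization.injective _ hle)] at h5
  exact MvPolynomial.C_injective _ _ (h5.trans (map_zero _).symm)

section Prufer

variable [IsDomain R] (hR : ∀ (p : Ideal R) [p.IsPrime], ValuationRing (Localization.AtPrime p))

include hR in
theorem finitePresentation_stdU (j : ULift.{u} (Fin (N + 1))) :
    (scal (CohB1.ProjSpace.toSpec N R) (Pn71.stdU N R j)).FinitePresentation := by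
  have := Serre71.isProper_projSpace N R
  have hft := finiteType_scal (CohB1.ProjSpace.toSpec N R) (isAffineOpen_stdU (R := R) j)
  let := (scal (CohB1.ProjSpace.toSpec N R) (Pn71.stdU N R j)).toAlgebra
  exact @finitePresentation_of_torsionFree R _ _ hR _ _ _ hft (fun r hr x hx => eq_zero_of_smul N j r hr x hx)

/-- The standard cover of projective space. -/
def projCover (hR : ∀ (p : Ideal R) [p.IsPrime], ValuationRing (Localization.AtPrime p)) :
    CohCover (CohB1.ProjSpace N R) where
  J := ULift.{u} (Fin (N + 1))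
  V := Pn71.stdU N R
  cover := Pn71.iSup_stdU N R
  affine := isAffineOpen_stdU
  coherent j := by
    algebraize [scal (CohB1.ProjSpace.toSpec N R) (Pn71.stdU N R j)]
    have : Algebra.FinitePresentation R Γ(CohB1.ProjSpace N R, Pn71.stdU N R j) :=
      finitePresentation_stdU hR j
    exact fgIsFP_ring hR _

variable (ι : X ⟶ CohB1.ProjSpace N R) [IsClosedImmersion ι]
  [Flat (ι ≫ CohB1.ProjSpace.toSpec N R)]

include hR in
theorem finitePresentation_preimage (j : ULift.{u} (Fin (N + 1))) :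
    (scal (ι ≫ CohB1.ProjSpace.toSpec N R) (ι ⁻¹ᵁ Pn71.stdU N R j)).FinitePresentation := by
  have := Serre71.isProper_projSpace N R
  have hW : IsAffineOpen (ι ⁻¹ᵁ Pn71.stdU N R j) := (isAffineOpen_stdU j).preimage ι
  have hft := finiteType_scal (ι ≫ CohB1.ProjSpace.toSpec N R) hW
  have hfl := flat_scal (ι ≫ CohB1.ProjSpace.toSpec N R) hW
  algebraize [scal (ι ≫ CohB1.ProjSpace.toSpec N R) (ι ⁻¹ᵁ Pn71.stdU N R j)]
  have : Module.IsTorsionFree R Γ(X, ι ⁻¹ᵁ Pn71.stdU N R j) := Module.Flat.isTorsionFree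
  exact @finitePresentation_of_torsionFree R _ _ hR _ _ _ hft (fun r hr x hx => (smul_eq_zero_iff_right hr).1 hx)

/-- The standard cover of a flat closed subscheme. -/
def subCover (hR : ∀ (p : Ideal R) [p.IsPrime], ValuationRing (Localization.AtPrime p)) :
    CohCover X where
  J := ULift.{u} (Fin (N + 1))
  V j := ι ⁻¹ᵁ Pn71.stdU N R j
  cover := by
    show iSup _ = ⊤
    rw [← Scheme.Hom.preimage_iSup, Pn71.iSup_stdU]
    rfl
  affine j := (isAffineOpen_stdU j).preimage ι
  coherent j := by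
    algebraize [scal (ι ≫ CohB1.ProjSpace.toSpec N R) (ι ⁻¹ᵁ Pn71.stdU N R j)]
    have : Algebra.FinitePresentation R Γ(X, ι ⁻¹ᵁ Pn71.stdU N R j) :=
      finitePresentation_preimage hR ι j
    exact fgIsFP_ring hR _

include hR in
theorem ker_app_fg (j : ULift.{u} (Fin (N + 1))) :
    (RingHom.ker (ι.app (Pn71.stdU N R j)).hom).FG := by
  algebraize [scal (CohB1.ProjSpace.toSpec N R) (Pn71.stdU N R j),
    scal (ι ≫ CohB1.ProjSpace.toSpec N R) (ι ⁻¹ᵁ Pn71.stdU N R j)]
  have : Algebra.FinitePresentation R Γ(CohB1.ProjSpace N R, Pn71.stdU N R j) := finitePresentation_stdU hR j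
  have : Algebra.FinitePresentation R Γ(X, ι ⁻¹ᵁ Pn71.stdU N R j) := finitePresentation_preimage hR ι j
  let φ : Γ(CohB1.ProjSpace N R, Pn71.stdU N R j) →ₐ[R] Γ(X, ι ⁻¹ᵁ Pn71.stdU N R j) :=
    { (ι.app (Pn71.stdU N R j)).hom with commutes' := fun r => app_scal _ ι _ r }
  exact Algebra.FinitePresentation.ker_fG_of_surjective φ
    (Scheme.Hom.app_surjective ι _ (isAffineOpen_stdU j))

include hR in
/-- Direct images of finitely presented modules are finitely presented. -/
theorem isFP_push_sub {F : X.Modules} (hF : CohB1.IsFP F) : CohB1.IsFP ((Coh.push ι).obj F) :=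
  isFP_push ι (projCover hR) (fun j => ker_app_fg hR ι j) hF

end Prufer

end Groth.Agent.ValVan29

end
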